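import Groth.Agent.FppfPic.HyperPn
import Groth.Agent.AmpleVan.Mul
import Groth.Agent.Lib.RegEpiPn
import Mathlib.Algebra.Module.Submodule.Union

/-!
# Multiplication by a general linear form
-/

set_option autoImplicit false
set_option linter.style.haveILetI false
set_option linter.unusedSectionVars false
set_option backward.isDefEq.respectTransparency false
set_option backward.isDefEq.respectTransparency.types false
set_option maxHeartbeats 1000000
attribute [-instance] CategoryTheory.catToReflQuiver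

universe u

open CategoryTheory CategoryTheory.Limits AlgebraicGeometry TopologicalSpace Opposite
open Groth.Agent.RegEpi Groth.Agent.ProjRegular Groth.Agent.PnCoh.Finite

noncomputable section

namespace Groth.Agent.Bdd

open Groth.Agent

/-- Multiplication by a section whose locus contains the associated points is injective. -/
theorem mono_mulSec {X : Scheme.{u}} {M N : X.Modules} (hM : Coh.IsQCoh M) (σ : Γ(N, ⊤))
    (h : ∀ y : X, Curv2.IsWeakAssPoint M y → y ∈ H23.TrivBasic.locus σ) : Mono (AmpleVan.mulSec σ M) := by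
  refine QCoh.mono_of_app_injective _ fun U => (injective_iff_map_eq_zero _).2 fun t ht => ?_
  refine AssPtX.eq_zero_of_germ hM t fun y hy hya => ?_
  obtain ⟨V, hyV, hV⟩ := H23.TrivBasic.mem_locus_iff.1 (h y hya)
  let W : X.Opens := U ⊓ V
  have hyW : y ∈ W := ⟨hy, hyV⟩
  have hfr : InvX.IsFrame (AModX.res N (le_top : W ≤ ⊤) σ) := by
    rw [← AModX.res_res (le_top : V ≤ ⊤) (inf_le_right : W ≤ V) σ]
    exact hV.res inf_le_right
  have h1 : InvX.tmul (AModX.res M (inf_le_left : W ≤ U) t) (AModX.res N (le_top : W ≤ ⊤) σ) = 0 := by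
    rw [← AModX.res_res (le_top : U ≤ ⊤) (inf_le_left : W ≤ U) σ, ← InvX.res_tmul]
    exact (congrArg _ (show InvX.tmul t (AModX.res N (le_top : U ≤ ⊤) σ) = 0 from ht)).trans (map_zero _)
  have h2 := FppfPic.HyperSec.germ_eq_zero_of_tmul _ hfr h1 hyW
  exact (InvX.germ_res' (inf_le_left : W ≤ U) hyW t).symm.trans h2

variable {k : Type u} [Field k] {n : ℕ}

local notation "PP" => Proj (CohB1.polyGrading n k)

attribute [local instance] FppfPic.HyperPn.projOver'

/-- `O(1)` as the pull back along the identity. -/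
abbrev N1 : (CohB1.ProjSpace n k).Modules := ClosedImmPn.M (𝟙 (CohB1.ProjSpace n k))

/-- Multiplication by a section, natural in the module. -/
def mulNat {X : Scheme.{u}} {N : X.Modules} (σ : Γ(N, ⊤)) : 𝟭 X.Modules ⟶ AmpleVan.tw N where
  app M := AmpleVan.mulSec σ M
  naturality _ _ φ := AmpleVan.mulSec_naturality σ φ

/-- Tensoring with the pulled back `O(1)` is twisting. -/
def twOne : AmpleVan.tw (N1 (k := k) (n := n)) ≅ twF (k := k) (n := n) 1 :=
  DCoh.tensorBi.flip.mapIso ((Scheme.Modules.pullbackId (CohB1.ProjSpace n k)).app (Twist.twistProjSpace n k 1))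

/-- `M(-1)(1) ≅ M`. -/
def twCancel : twF (k := k) (n := n) (-1) ⋙ twF 1 ≅ 𝟭 _ :=
  PnDual.twistFCompIso (-1) 1 0
      ((twist_tensor_iso (coords k n) coords_mem coords_cover (-1) 1).some ≪≫ eqToIso (by rw [neg_add_cancel])) ≪≫
    PnDual.twistFZeroIso (unitIso (k := k) (n := n)).some

/-- Multiplication by a section of `O(1)`, as a map `M(-1) → M`. -/
def mu (σ : Γ(N1 (k := k) (n := n), ⊤)) : twF (k := k) (n := n) (-1) ⟶ 𝟭 _ :=
  Functor.whiskerLeft (twF (-1)) (mulNat σ ≫ twOne.hom) ≫ twCancel.hom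

theorem mono_mu (σ : Γ(N1 (k := k) (n := n), ⊤)) {M : (Proj (CohB1.polyGrading n k)).Modules} (hM : Coh.IsCoh M)
    (h : ∀ y : CohB1.ProjSpace n k, Curv2.IsWeakAssPoint M y → y ∈ H23.TrivBasic.locus σ) :
    Mono ((mu σ).app M) := by
  haveI h1 : Mono ((mulNat σ).app ((twF (k := k) (n := n) (-1)).obj M)) :=
    mono_mulSec (isCoh_twistBy hM (-1)).1 σ fun y hy =>
      h y (FppfPic.HyperPn.isWeakAss_of_tensor (isInvertible_twist (coords k n) coords_mem coords_cover _) y hy)
  haveI h2 : IsIso ((twOne (k := k) (n := n)).hom.app ((twF (k := k) (n := n) (-1)).obj M)) := NatIso.hom_app_isIso _ _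
  haveI h3 : IsIso ((twCancel (k := k) (n := n)).hom.app M) := NatIso.hom_app_isIso _ _
  haveI h4 : Mono ((mulNat σ).app ((twF (k := k) (n := n) (-1)).obj M) ≫
      (twOne (k := k) (n := n)).hom.app ((twF (k := k) (n := n) (-1)).obj M)) := mono_comp _ _
  exact @mono_comp _ _ _ _ _ _ h4 _ (IsIso.mono_of_iso _)

end Groth.Agent.Bdd

namespace Groth.Agent.Bdd

open Groth.Agent

/-- Finitely many nonzero linear forms have a common non-zero. -/
theorem exists_avoid_forms {K : Type*} [Field K] [Infinite K] {ι : Type*} [Finite ι] {F : ι → Type*}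
    [∀ i, Field (F i)] (φ : ∀ i, K →+* F i) {r : ℕ} (v : ∀ i, Fin r → F i) (hv : ∀ i, ∃ j, v i j ≠ 0) :
    ∃ c : Fin r → K, ∀ i, ∑ a, φ i (c a) * v i a ≠ 0 := by
  classical
  let S : ι → Submodule K (Fin r → K) := fun y =>
    { carrier := {c | ∑ a, φ y (c a) * v y a = 0}
      add_mem' := fun {c d} hc hd => by
        simp only [Set.mem_ofPred_eq, Pi.add_apply, map_add, add_mul, Finset.sum_add_distrib] at hc hd ⊢
        rw [hc, hd, add_zero]
      zero_mem' := by simp
      smul_mem' := fun r c hc => by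
        simp only [Set.mem_ofPred_eq, Pi.smul_apply, smul_eq_mul, map_mul, mul_assoc] at hc ⊢
        rw [← Finset.mul_sum, hc, mul_zero] }
  have hS : ∀ y, S y ≠ ⊤ := fun y h => by
    obtain ⟨j, hj⟩ := hv y
    have h1 : ∑ a, φ y ((Pi.single j 1 : Fin r → K) a) * v y a = 0 :=
      (h ▸ Submodule.mem_top : (Pi.single j 1 : Fin r → K) ∈ S y)
    simp [Pi.single_apply, apply_ite] at h1
    exact hj h1
  obtain ⟨c, hc⟩ := Submodule.exists_forall_notMem_of_forall_ne_top S hS
  exact ⟨c, fun i h => hc i h⟩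

/-- A general combination of sections without common zero avoids the associated points of two modules. -/
theorem exists_avoid_general {K : Type u} [Field K] [Infinite K] {X : Scheme.{u}} (gl : K →+* Γ(X, ⊤))
    [IsLocallyNoetherian X] [CompactSpace X] {E Q : X.Modules} (hE : Coh.IsCoh E) (hQ : Coh.IsCoh Q)
    {N : X.Modules} (hN : PicF.IsInvertible N) {r : ℕ} (l : Fin r → Γ(N, ⊤))
    (hcov : ∀ y : X, ∃ j, y ∈ H23.TrivBasic.locus (l j)) :
    ∃ σ : Γ(N, ⊤), ∀ y : X,
      Curv2.IsWeakAssPoint E y ∨ Curv2.IsWeakAssPoint Q y → y ∈ H23.TrivBasic.locus σ := by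
  classical
  let A := {y : X | (y ∈ (⊤ : X.Opens) ∧ Curv2.IsAssPoint E y) ∨ (y ∈ (⊤ : X.Opens) ∧ Curv2.IsAssPoint Q y)}
  haveI : Finite A := ((AssPtX.finite_assPoints hE (U := ⊤) isCompact_univ).union
    (AssPtX.finite_assPoints hQ (U := ⊤) isCompact_univ)).to_subtype
  choose v hv using fun y : A => FppfPic.mem_locus_comb hN l y.1
  have hv0 : ∀ y : A, ∃ j, v y j ≠ 0 := fun y => by
    obtain ⟨j, h1⟩ := hcov y.1
    by_contra h0
    push Not at h0
    have h2 : (∑ a, (Pi.single j (1 : Γ(X, ⊤)) : Fin r → Γ(X, ⊤)) a • l a) = l j := by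
      simp [Pi.single_apply, ite_smul]
    rw [← h2] at h1
    exact (hv y (Pi.single j 1)).1 h1 (Finset.sum_eq_zero fun a _ => by rw [h0 a, mul_zero])
  obtain ⟨c, hc⟩ := exists_avoid_forms (fun y : A => (X.evaluation ⊤ y.1 trivial).hom.comp gl) v hv0
  refine ⟨∑ a, gl (c a) • l a, fun y hy => ?_⟩
  have hyA : y ∈ A := hy.imp (fun h => ⟨trivial, AssPtX.isAssPoint_iff.2 h⟩) (fun h => ⟨trivial, AssPtX.isAssPoint_iff.2 h⟩)
  exact (hv ⟨y, hyA⟩ fun a => gl (c a)).2 (hc ⟨y, hyA⟩)

variable {k : Type u} [Field k] [Infinite k] {n : ℕ}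

attribute [local instance] FppfPic.HyperPn.projOver'

/-- A linear form avoiding the associated points of two coherent modules. -/
theorem exists_avoid {E Q : (Proj (CohB1.polyGrading n k)).Modules} (hE : Coh.IsCoh E) (hQ : Coh.IsCoh Q) :
    ∃ σ : Γ(N1 (k := k) (n := n), ⊤), ∀ y : CohB1.ProjSpace n k,
      Curv2.IsWeakAssPoint E y ∨ Curv2.IsWeakAssPoint Q y → y ∈ H23.TrivBasic.locus σ := by
  haveI hP : IsNoetherian (Proj (CohB1.polyGrading n k)) := Proj16.isNoetherian_proj _
  haveI : IsLocallyNoetherian (CohB1.ProjSpace n k) := hP.toIsLocallyNoetherian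
  haveI : CompactSpace (CohB1.ProjSpace n k) := hP.toCompactSpace
  refine exists_avoid_general (FppfPic.HyperSec.gl k (X := CohB1.ProjSpace n k)) hE hQ (PicClLib.isInvertible_pullback _
    (isInvertible_twist (coords k n) coords_mem coords_cover _))
    (fun a => ClosedImmPn.σ (𝟙 (CohB1.ProjSpace n k)) a) fun y => ?_
  obtain ⟨j, hj⟩ := Opens.mem_iSup.1 ((AmpleEmbed.iSup_basicOpen_X n k).ge (trivial : y ∈ (⊤ : Opens _)))
  exact ⟨j, (ClosedImmPn.preimage_D (𝟙 (CohB1.ProjSpace n k)) j).le hj⟩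

end Groth.Agent.Bdd

end
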