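import Groth.Agent.Bdd.Smul
import Groth.Agent.ZClosLib.CohDescent
import Groth.Agent.QCoh.Support
import Groth.Prelude.Def_Pic13
import Mathlib.Algebra.MvPolynomial.CommRing
import Mathlib.AlgebraicGeometry.Limits

/-!
# Bounded families of cokernels
-/

set_option autoImplicit false
set_option linter.style.haveILetI false
set_option linter.unusedSectionVars false
set_option backward.isDefEq.respectTransparency false
set_option backward.isDefEq.respectTransparency.types false
attribute [-instance] CategoryTheory.catToReflQuiver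

universe u

open CategoryTheory CategoryTheory.Limits AlgebraicGeometry TopologicalSpace Opposite

noncomputable section

namespace Groth.Agent.Bdd

open Groth.Agent

variable {k : Type u} [Field k] {X : Scheme.{u}} [X.Over (Spec (CommRingCat.of k))]

theorem isBounded_mono {P Q : X.Modules → Prop} (hP : Pic13.IsBounded k X P)
    (h : ∀ F, Q F → ∃ G, P G ∧ Nonempty (G ≅ F)) : Pic13.IsBounded k X Q := by
  obtain ⟨T, q, h1, h2, F, hF, hmem⟩ := hP
  refine ⟨T, q, h1, h2, F, hF, fun L hL => ?_⟩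
  obtain ⟨G, hG, ⟨e⟩⟩ := h L hL
  obtain ⟨t, ht, ⟨e'⟩⟩ := hmem G hG
  exact ⟨t, ht, ⟨e' ≪≫ e⟩⟩

theorem toGlobal_comp {A : Type u} [CommRing A] {Y Z : Scheme.{u}} (σ : Z ⟶ Y)
    (p : Y ⟶ Spec (CommRingCat.of A)) (a : A) :
    σ.appTop (Coh.toGlobal p a) = Coh.toGlobal (σ ≫ p) a := by
  simp only [Coh.toGlobal, RingHom.comp_apply, Scheme.Hom.comp_appTop]
  rfl

theorem toGlobal_spec {A B : Type u} [CommRing A] [CommRing B] {Y : Scheme.{u}}
    (p : Y ⟶ Spec (CommRingCat.of B)) (φ : A →+* B) (a : A) :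
    Coh.toGlobal (p ≫ Spec.map (CommRingCat.ofHom φ)) a = Coh.toGlobal p (φ a) := by
  simp only [Coh.toGlobal, RingHom.comp_apply, Scheme.Hom.comp_appTop]
  refine congrArg p.appTop.hom ?_
  exact (congr($(Scheme.ΓSpecIso_inv_naturality (CommRingCat.ofHom φ)) a)).symm

/-- A linear combination of maps of modules. -/
def comb {r : ℕ} {A B : X.Modules} (φ : Fin r → (A ⟶ B)) (a : Fin r → k) : A ⟶ B :=
  ∑ l, φ l ≫ LCZLib.smulHom (Coh.toGlobal (X ↘ Spec (CommRingCat.of k)) (a l)) B

variable [IsLocallyNoetherian X]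

/-- The cokernels of the linear combinations of finitely many maps form a bounded family. -/
theorem isBounded_coker [LocallyOfFiniteType (X ↘ Spec (CommRingCat.of k))] {r : ℕ} {A B : X.Modules}
    (hA : Coh.IsCoh A) (hB : Coh.IsCoh B) (φ : Fin r → (A ⟶ B)) :
    Pic13.IsBounded k X (fun F => ∃ a : Fin r → k, Nonempty (cokernel (comb φ a) ≅ F)) := by
  let R := MvPolynomial (Fin r) k
  let q : Spec (CommRingCat.of R) ⟶ Spec (CommRingCat.of k) := Spec.map (CommRingCat.ofHom MvPolynomial.C)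
  haveI : LocallyOfFiniteType q := HasRingHomProperty.Spec_iff.2 (by
    show (MvPolynomial.C : k →+* R).FiniteType
    exact RingHom.finiteType_algebraMap.2 inferInstance)
  haveI : QuasiCompact q := inferInstance
  let f := X ↘ Spec (CommRingCat.of k)
  let pr : Pic13.prodK k X q ⟶ Spec (CommRingCat.of R) := pullback.snd f q
  let p₁ : Pic13.prodK k X q ⟶ X := pullback.fst f q
  haveI : LocallyOfFiniteType pr := inferInstanceAs (LocallyOfFiniteType (pullback.snd f q))
  haveI : IsLocallyNoetherian (Pic13.prodK k X q) := LocallyOfFiniteType.isLocallyNoetherian pr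
  let A' := (Scheme.Modules.pullback p₁).obj A
  let B' := (Scheme.Modules.pullback p₁).obj B
  let Φ : A' ⟶ B' := ∑ l, (Scheme.Modules.pullback p₁).map (φ l) ≫
    LCZLib.smulHom (Coh.toGlobal pr (MvPolynomial.X l)) B'
  refine ⟨Spec (CommRingCat.of R), q, inferInstance, inferInstance, cokernel Φ,
    QCoh.isCoh_cokernel (ZClosLib.isCoh_pullback _ hA).1 (ZClosLib.isCoh_pullback _ hB) Φ, ?_⟩
  rintro F ⟨a, ⟨e⟩⟩
  let ev : R →+* k := MvPolynomial.eval a
  have hev : ev.comp MvPolynomial.C = RingHom.id k := RingHom.ext fun z => MvPolynomial.eval_C z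
  have ht : Spec.map (CommRingCat.ofHom ev) ≫ q = 𝟙 _ := by
    rw [← Spec.map_comp, ← CommRingCat.ofHom_comp, hev, CommRingCat.ofHom_id, Spec.map_id]
  refine ⟨Spec.map (CommRingCat.ofHom ev), ht, ⟨?_ ≪≫ e⟩⟩
  let σ := Pic13.sliceAt k X q (Spec.map (CommRingCat.ofHom ev)) ht
  have hσ : σ ≫ p₁ = 𝟙 X := pullback.lift_fst _ _ _
  have hσ₂ : σ ≫ pr = f ≫ Spec.map (CommRingCat.ofHom ev) := pullback.lift_snd _ _ _
  let E : Scheme.Modules.pullback p₁ ⋙ Scheme.Modules.pullback σ ≅ 𝟭 X.Modules :=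
    Scheme.Modules.pullbackComp σ p₁ ≪≫ Scheme.Modules.pullbackCongr hσ ≪≫ Scheme.Modules.pullbackId X
  have hΦ : (Scheme.Modules.pullback σ).map Φ ≫ (E.app B).hom = (E.app A).hom ≫ comb φ a := by
    simp only [Φ, comb, Functor.map_sum, Preadditive.sum_comp, Preadditive.comp_sum, Functor.map_comp]
    refine Finset.sum_congr rfl fun l _ => ?_
    rw [pullback_smulHom, toGlobal_comp, hσ₂, toGlobal_spec, show ev (MvPolynomial.X l) = a l from MvPolynomial.eval_X l,
      Category.assoc, smulHom_comp, ← Category.assoc, ← Category.assoc]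
    exact congrArg (· ≫ LCZLib.smulHom _ _) (E.hom.naturality (φ l))
  exact PreservesCokernel.iso (Scheme.Modules.pullback σ) Φ ≪≫
    cokernel.mapIso _ _ (E.app A) (E.app B) hΦ

end Groth.Agent.Bdd

end
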