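import Groth.Agent.Bdd.Coker
import Groth.Agent.SheafHomX.Coherent
import Groth.Agent.InvX.GenEpi
import Groth.Agent.QCoh.GodHH
import Groth.Agent.H23.PicMul
import Groth.Agent.AmpleVan.Vanish
import Groth.Agent.Lib.CurveDeg

/-!
# Bounded families: cokernels of maps out of free modules, twists
-/

set_option autoImplicit false
set_option linter.style.haveILetI false
set_option linter.unusedSectionVars false
set_option backward.isDefEq.respectTransparency false
set_option backward.isDefEq.respectTransparency.types false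
attribute [-instance] CategoryTheory.catToReflQuiver

universe u

open CategoryTheory CategoryTheory.Limits AlgebraicGeometry TopologicalSpace Opposite

noncomputable section

namespace Groth.Agent.Bdd

open Groth.Agent Groth.Agent.InvX
open scoped Groth.Agent.H23.PicMul
attribute [local instance] Groth.Agent.QCoh.hasFiniteBiproducts

variable {k : Type u} [Field k] {X : Scheme.{u}}

theorem hom_ext_of_one {G : X.Modules} {s t : Coh.structureModule X ⟶ G} (h : InvX.one s = InvX.one t) : s = t := by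
  refine Scheme.Modules.hom_ext _ _ fun W => ?_
  ext r
  exact (InvX.app_eq_smul s (show Γ(X, W) from r)).trans ((congrArg (fun z => (show Γ(X, W) from r) • AModX.res G _ z) h).trans
    (InvX.app_eq_smul t (show Γ(X, W) from r)).symm)

theorem one_comp {G H : X.Modules} (s : Coh.structureModule X ⟶ G) (g : G ⟶ H) :
    InvX.one (s ≫ g) = g.app ⊤ (InvX.one s) := rfl

/-- The evaluation of morphisms out of the structure sheaf, as an additive map. -/
def oneHom (G : X.Modules) : (Coh.structureModule X ⟶ G) →+ Γ(G, ⊤) where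
  toFun := InvX.one
  map_zero' := rfl
  map_add' _ _ := rfl

variable [X.Over (Spec (CommRingCat.of k))]

theorem exists_basis_hom {G : X.Modules} (hfin : Module.Finite k (Coh.HH X G 0)) {N : ℕ}
    (hN : Module.finrank k (Coh.HH X G 0) ≤ N) :
    ∃ s : Fin N → (Coh.structureModule X ⟶ G), ∀ t : Coh.structureModule X ⟶ G, ∃ a : Fin N → k,
      t = comb s a := by
  let ρ : k →+* Coh.Γtop X := Coh.toGlobal (X ↘ Spec (CommRingCat.of k))
  letI := QCoh.secModule ρ G (⊤ : X.Opens)
  letI : Module k (Coh.HH X G 0) := QCoh.modHH ρ G 0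
  haveI : Module.Finite k (Coh.HH X G 0) := hfin
  let e : Γ(G, (⊤ : X.Opens)) ≃ₗ[k] Coh.HH X G 0 := QCoh.secH ρ G
  let b := Module.finBasis k (Coh.HH X G 0)
  let v : Fin N → Coh.HH X G 0 := fun l => if h : (l : ℕ) < Module.finrank k (Coh.HH X G 0) then b ⟨l, h⟩ else 0
  have hv : Submodule.span k (Set.range v) = ⊤ := by
    refine top_le_iff.1 (b.span_eq.ge.trans (Submodule.span_mono ?_))
    rintro _ ⟨j, rfl⟩
    exact ⟨⟨j, j.2.trans_le hN⟩, dif_pos j.2⟩
  refine ⟨fun l => InvX.ofSect (e.symm (v l)), fun t => ?_⟩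
  obtain ⟨a, ha⟩ := Submodule.mem_span_range_iff_exists_fun k |>.1
    (hv.ge (Submodule.mem_top (x := e (InvX.one t))))
  refine ⟨a, hom_ext_of_one ?_⟩
  have h1 : InvX.one t = ∑ l, a l • e.symm (v l) := by
    apply e.injective
    rw [map_sum, ← ha]
    exact Finset.sum_congr rfl fun l _ => by rw [map_smul, e.apply_symm_apply]
  rw [h1, show InvX.one (comb (fun l => InvX.ofSect (e.symm (v l))) a) = oneHom G (comb (fun l => InvX.ofSect (e.symm (v l))) a) from rfl,
    comb, map_sum]
  refine Finset.sum_congr rfl fun l _ => ?_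
  refine Eq.trans ?_ (one_comp (InvX.ofSect (e.symm (v l))) (LCZLib.smulHom (ρ (a l)) G)).symm
  rw [InvX.one_ofSect]
  rfl

/-- A globally generated module with at most `N` independent sections is a quotient of `O^N`. -/
theorem exists_epi_free_of_finrank {G : X.Modules} (hG : Curv2.IsGloballyGenerated G)
    (hfin : Module.Finite k (Coh.HH X G 0)) {N : ℕ} (hN : Module.finrank k (Coh.HH X G 0) ≤ N) :
    ∃ q : FlatMod.freeMod X N ⟶ G, Epi q := by
  obtain ⟨ι, p, hp⟩ := hG
  obtain ⟨s, hs⟩ := exists_basis_hom hfin hN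
  have h2 : ∀ i : ι, ∃ w : Coh.structureModule X ⟶ FlatMod.freeMod X N,
      w ≫ Sigma.desc s = (SheafOfModules.ιFree i : Coh.structureModule X ⟶ _) ≫ p := fun i => by
    obtain ⟨a, ha⟩ := hs ((SheafOfModules.ιFree i : Coh.structureModule X ⟶ _) ≫ p)
    refine ⟨∑ l, LCZLib.smulHom (Coh.toGlobal (X ↘ Spec (CommRingCat.of k)) (a l)) _ ≫
      Sigma.ι (fun _ : Fin N => Coh.structureModule X) l, ?_⟩
    rw [ha, comb, Preadditive.sum_comp]
    refine Finset.sum_congr rfl fun l _ => ?_
    rw [Category.assoc, Sigma.ι_desc, smulHom_comp]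
  choose w hw using h2
  let u : (SheafOfModules.free ι : X.Modules) ⟶ FlatMod.freeMod X N :=
    Cofan.IsColimit.desc (SheafOfModules.isColimitFreeCofan ι) w
  have hu : u ≫ Sigma.desc s = p := Cofan.IsColimit.hom_ext (SheafOfModules.isColimitFreeCofan ι) _ _ fun i => by
    rw [← Category.assoc]
    exact (congrArg (· ≫ Sigma.desc s) (Cofan.IsColimit.fac (SheafOfModules.isColimitFreeCofan ι) w i)).trans (hw i)
  haveI := hp
  exact ⟨Sigma.desc s, epi_of_epi_fac hu⟩

variable [IsLocallyNoetherian X] [LocallyOfFiniteType (X ↘ Spec (CommRingCat.of k))]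

/-- The cokernels of all maps `O^M → B` form a bounded family. -/
theorem isBounded_coker_free {B : X.Modules} (hB : Coh.IsCoh B) (hfin : Module.Finite k (Coh.HH X B 0)) (M : ℕ) :
    Pic13.IsBounded k X (fun F => ∃ ψ : FlatMod.freeMod X M ⟶ B, Nonempty (cokernel ψ ≅ F)) := by
  classical
  obtain ⟨s, hs⟩ := exists_basis_hom hfin le_rfl
  let d := Module.finrank k (Coh.HH X B 0)
  let φ : Fin (M * d) → (FlatMod.freeMod X M ⟶ B) := fun z =>
    Sigma.desc fun j => if j = (finProdFinEquiv.symm z).1 then s (finProdFinEquiv.symm z).2 else 0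
  have hA : Coh.IsCoh (FlatMod.freeMod X M) :=
    SheafHomX.isCoh_of_iso (biproduct.isoCoproduct (fun _ : ULift.{u} (Fin M) => Coh.structureModule X) ≪≫
        Sigma.whiskerEquiv (f := fun _ : ULift.{u} (Fin M) => Coh.structureModule X) (g := fun _ : Fin M => Coh.structureModule X) Equiv.ulift (fun _ => Iso.refl (Coh.structureModule X)))
      (QCoh.isCoh_biproduct (fun _ : ULift.{u} (Fin M) => Coh.structureModule X)
      fun _ => CurveDeg.isCoh_of_isInvertible CurveDeg.isInvertible_structureModule)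
  refine isBounded_mono (isBounded_coker (k := k) hA hB φ) ?_
  rintro F ⟨ψ, e⟩
  choose a ha using fun j : Fin M => hs (Sigma.ι (fun _ : Fin M => Coh.structureModule X) j ≫ ψ)
  refine ⟨F, ⟨fun z => a (finProdFinEquiv.symm z).1 (finProdFinEquiv.symm z).2, ?_⟩, ⟨Iso.refl _⟩⟩
  suffices h : comb φ (fun z => a (finProdFinEquiv.symm z).1 (finProdFinEquiv.symm z).2) = ψ by rw [h]; exact e
  refine Sigma.hom_ext _ _ fun j => ?_
  rw [ha, comb, comb, Preadditive.comp_sum, ← finProdFinEquiv.sum_comp, Fintype.sum_prod_type,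
    Finset.sum_eq_single j]
  · refine Finset.sum_congr rfl fun l _ => ?_
    simp only [φ, Equiv.symm_apply_apply]
    rw [← Category.assoc, Sigma.ι_desc, if_pos rfl]
  · intro j' _ hj'
    refine Finset.sum_eq_zero fun l _ => ?_
    simp only [φ, Equiv.symm_apply_apply]
    rw [← Category.assoc, Sigma.ι_desc, if_neg (Ne.symm hj'), zero_comp]
  · exact fun h => absurd (Finset.mem_univ j) h

/-- Boundedness is preserved by tensoring with a fixed invertible module. -/
theorem isBounded_tensor {P : X.Modules → Prop} (hP : Pic13.IsBounded k X P) {N : X.Modules}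
    (hN : PicF.IsInvertible N) :
    Pic13.IsBounded k X (fun F => ∃ G, P G ∧ Nonempty (CohB1.tensorMod G N ≅ F)) := by
  obtain ⟨T, q, h1, h2, F, hF, hmem⟩ := hP
  haveI := h1
  let p₁ : Pic13.prodK k X q ⟶ X := pullback.fst (X ↘ Spec (CommRingCat.of k)) q
  haveI : IsLocallyNoetherian T := LocallyOfFiniteType.isLocallyNoetherian q
  haveI : IsLocallyNoetherian (Pic13.prodK k X q) :=
    LocallyOfFiniteType.isLocallyNoetherian (pullback.snd (X ↘ Spec (CommRingCat.of k)) q)
  refine ⟨T, q, h1, h2, CohB1.tensorMod F ((Scheme.Modules.pullback p₁).obj N),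
    AmpleVan.isCoh_tensor hF (CurveDeg.isCoh_of_isInvertible (PicClLib.isInvertible_pullback _ hN)), ?_⟩
  rintro L ⟨G, hG, ⟨e⟩⟩
  obtain ⟨t, ht, ⟨e'⟩⟩ := hmem G hG
  refine ⟨t, ht, H23.PicMul.cl_eq_iff.1 ?_⟩
  show PicF.pullCl (Pic13.sliceAt k X q t ht) (PicF.cl _) = _
  rw [H23.PicMul.cl_tensor, H23.PicMul.pullCl_mul,
    show PicF.cl ((Scheme.Modules.pullback p₁).obj N) = PicF.pullCl p₁ (PicF.cl N) from rfl,
    ← PicLoc.pullCl_comp, show Pic13.sliceAt k X q t ht ≫ p₁ = 𝟙 X from pullback.lift_fst _ _ _,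
    PicClLib.pullCl_id, show PicF.pullCl (Pic13.sliceAt k X q t ht) (PicF.cl F) = PicF.cl G from
      H23.PicMul.cl_eq_iff.2 ⟨e'⟩, ← H23.PicMul.cl_tensor]
  exact H23.PicMul.cl_eq_iff.2 ⟨e⟩

end Groth.Agent.Bdd

end
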