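import Groth.Agent.Bdd.Hyperplane
import Groth.Agent.Bdd.Free
import Groth.Agent.TauNum.Bounded
import Groth.Agent.Lib.RegDescent
import Groth.Agent.Lib.Euler
import Groth.Agent.Lib.CurveBundle
import Groth.Agent.CurveCohLib.Proper
import Groth.Agent.AmpleX.EmbedOverApps
import Mathlib.CategoryTheory.Abelian.CommSq

/-!
# Mumford's bound on the regularity of subsheaves
-/

set_option autoImplicit false
set_option linter.style.haveILetI false
set_option linter.unusedSectionVars false
set_option backward.isDefEq.respectTransparency false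
set_option backward.isDefEq.respectTransparency.types false
set_option maxHeartbeats 1000000
attribute [-instance] CategoryTheory.catToReflQuiver

universe u

open CategoryTheory CategoryTheory.Limits AlgebraicGeometry TopologicalSpace Opposite Polynomial
open Groth.Agent.RegEpi Groth.Agent.ProjRegular Groth.Agent.PnCoh.Finite

noncomputable section

namespace Groth.Agent.Bdd

open Groth.Agent
open scoped Groth.Agent.H23.PicMul

variable {k : Type u} [Field k] {n : ℕ}

local notation "PP" => Proj (CohB1.polyGrading n k)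

attribute [local instance] FppfPic.HyperPn.projOver'

instance isProper_projOver : IsProper ((Proj (CohB1.polyGrading n k)) ↘ Spec (CommRingCat.of k)) :=
  PnCoh.Chow.isProper_toSpec n k

/-- `m`-regularity on projective space. -/
def Reg (M : (Proj (CohB1.polyGrading n k)).Modules) (m : ℤ) : Prop :=
  ∀ q : ℕ, 1 ≤ q → Subsingleton (Coh.HH PP ((twF (m - q)).obj M) q)

/-- The Hilbert polynomial. -/
def HasPoly (M : (Proj (CohB1.polyGrading n k)).Modules) (φ : Polynomial ℚ) : Prop :=
  ∀ d : ℤ, (Curv2.euler k PP ((twF d).obj M) : ℚ) = φ.eval (d : ℚ)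

theorem subsingleton_of_reg {M : (Proj (CohB1.polyGrading n k)).Modules} (hM : Coh.IsCoh M) {m : ℤ} (h : Reg M m)
    (q : ℕ) (r : ℤ) (hq : 1 ≤ q) (hr : m - q ≤ r) : Subsingleton (Coh.HH PP ((twF r).obj M) q) := by
  obtain ⟨e, rfl⟩ : ∃ e : ℕ, r = m + ((e : ℤ) - q) := ⟨(r - (m - q)).toNat, by omega⟩
  have h0 : Curv2.IsMRegular k n M m := fun i hi _ => h i hi
  obtain ⟨φ⟩ := twist_twist_iso M m ((e : ℤ) - q)
  exact QCoh.subsingleton_HH_of_iso φ q (reg_add coords_mem coords_cover (reg0_of_isMRegular hM h0) e q hq)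

theorem Reg.mono {M : (Proj (CohB1.polyGrading n k)).Modules} (hM : Coh.IsCoh M) {m m' : ℤ} (h : Reg M m)
    (hm : m ≤ m') : Reg M m' :=
  fun q hq => subsingleton_of_reg hM h q _ hq (by omega)

theorem euler_eq_h0 {M : (Proj (CohB1.polyGrading n k)).Modules} (hM : Coh.IsCoh M) {m : ℤ} (h : Reg M m)
    (j : ℤ) (hj : m - 1 ≤ j) :
    Curv2.euler k PP ((twF j).obj M) = Module.finrank k (Coh.HH PP ((twF j).obj M) 0) := by
  haveI := CurveCohLib.isNoetherian_of_proper (k := k) (X := PP)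
  exact (Euler.euler_eq_sum k ((twF j).obj M) 1 fun q hq =>
    subsingleton_of_reg hM h q j hq (by omega)).trans (by simp)

theorem finite_HH {M : (Proj (CohB1.polyGrading n k)).Modules} (hM : Coh.IsCoh M) (j : ℤ) (q : ℕ) :
    Module.Finite k (Coh.HH PP ((twF j).obj M) q) :=
  projSpace_finite_HH n k _ (isCoh_twistBy hM j) q

theorem exists_hasPoly {M : (Proj (CohB1.polyGrading n k)).Modules} (hM : Coh.IsCoh M) : ∃ φ, HasPoly M φ := by
  letI : (CohB1.ProjSpace n k).Over (Spec (CommRingCat.of k)) :=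
    inferInstanceAs ((Proj (CohB1.polyGrading n k)).Over (Spec (CommRingCat.of k)))
  haveI : IsProper (CohB1.ProjSpace n k ↘ Spec (CommRingCat.of k)) := PnCoh.Chow.isProper_toSpec n k
  obtain ⟨φ, hφ⟩ := TauNum.exists_hilbert_poly (k := k) (n := n) (𝟙 (CohB1.ProjSpace n k)) (F := M) hM
  refine ⟨φ, fun d => ?_⟩
  rw [← hφ d, TauNum.eulerCharLE_twistOn (𝟙 (CohB1.ProjSpace n k)) hM]
  exact congrArg Int.cast (CurveCohLib.euler_congr (k := k)
    ((DCoh.tensorBi.obj M).mapIso ((Scheme.Modules.pullbackId (CohB1.ProjSpace n k)).app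
      (Twist.twistProjSpace n k d)))).symm

theorem shortExact_twF {S : ShortComplex (Proj (CohB1.polyGrading n k)).Modules} (hS : S.ShortExact) (d : ℤ) :
    (RegDescent.twSeq S d).ShortExact :=
  RegDescent.twSeq_exact (coords k n) coords_mem coords_cover hS d

theorem euler_add_ses {S : ShortComplex (Proj (CohB1.polyGrading n k)).Modules} (hS : S.ShortExact)
    (hA : Coh.IsCoh S.X₁) (hB : Coh.IsCoh S.X₂) (hC : Coh.IsCoh S.X₃) :
    Curv2.euler k PP S.X₂ = Curv2.euler k PP S.X₁ + Curv2.euler k PP S.X₃ :=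
  CurveCohLib.euler_additive (k := k) (X := PP) hS hA hB hC

theorem twSeq_X (S : ShortComplex (Proj (CohB1.polyGrading n k)).Modules) (d : ℤ) :
    (RegDescent.twSeq S d).X₁ = (twF d).obj S.X₁ ∧ (RegDescent.twSeq S d).X₂ = (twF d).obj S.X₂ ∧
      (RegDescent.twSeq S d).X₃ = (twF d).obj S.X₃ := ⟨rfl, rfl, rfl⟩

theorem euler_twSeq {S : ShortComplex (Proj (CohB1.polyGrading n k)).Modules} (hS : S.ShortExact)
    (hA : Coh.IsCoh S.X₁) (hB : Coh.IsCoh S.X₂) (hC : Coh.IsCoh S.X₃) (d : ℤ) :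
    Curv2.euler k PP ((twF d).obj S.X₂) = Curv2.euler k PP ((twF d).obj S.X₁) + Curv2.euler k PP ((twF d).obj S.X₃) := by
  obtain ⟨e₁, e₂, e₃⟩ := twSeq_X S d
  rw [← e₁, ← e₂, ← e₃]
  exact euler_add_ses (shortExact_twF hS d) (e₁ ▸ isCoh_twistBy hA d) (e₂ ▸ isCoh_twistBy hB d) (e₃ ▸ isCoh_twistBy hC d)

theorem h0_le_ses {S : ShortComplex (Proj (CohB1.polyGrading n k)).Modules} (hS : S.ShortExact)
    (hfin : Module.Finite k (Coh.HH PP S.X₂ 0)) :
    Module.finrank k (Coh.HH PP S.X₁ 0) ≤ Module.finrank k (Coh.HH PP S.X₂ 0) :=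
  LinearMap.finrank_le_finrank_of_injective (PnDual.HHlin_f_injective (k := k) hS)

theorem h0_le_of_mono {A B : (Proj (CohB1.polyGrading n k)).Modules} (f : A ⟶ B) [Mono f] (hB : Coh.IsCoh B) (d : ℤ) :
    Module.finrank k (Coh.HH PP ((twF d).obj A) 0) ≤ Module.finrank k (Coh.HH PP ((twF d).obj B) 0) := by
  let S := ShortComplex.mk f (cokernel.π f) (cokernel.condition f)
  have hS : S.ShortExact :=
    ShortComplex.ShortExact.mk' (ShortComplex.exact_of_g_is_cokernel _ (cokernelIsCokernel f)) inferInstance inferInstance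
  obtain ⟨e₁, e₂, -⟩ := twSeq_X S d
  show Module.finrank k (Coh.HH PP ((twF d).obj S.X₁) 0) ≤ Module.finrank k (Coh.HH PP ((twF d).obj S.X₂) 0)
  rw [← e₁, ← e₂]
  exact h0_le_ses (shortExact_twF hS d) (by rw [e₂]; exact finite_HH hB d 0)

theorem isZero_of_poly_zero {M : (Proj (CohB1.polyGrading n k)).Modules} (hM : Coh.IsCoh M) {m : ℤ} (h : Reg M m)
    (hp : HasPoly M 0) : IsZero M := by
  have hh0 : Module.finrank k (Coh.HH PP ((twF m).obj M) 0) = 0 := by
    have h1 := hp m
    rw [euler_eq_h0 hM h m (by omega), Polynomial.eval_zero, Int.cast_natCast, Nat.cast_eq_zero] at h1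
    exact h1
  have hR : Reg0 (𝒜 := CohB1.polyGrading n k) ((twF m).obj M) :=
    reg0_of_isMRegular hM fun i hi _ => h i hi
  have hc := isCoh_twistBy hM m
  obtain ⟨q, hq⟩ := exists_epi_free_of_finrank (k := k)
    (ProjRegular.isGloballyGenerated coords_mem coords_cover coords_noetherian (good_of_isCoh coords_mem hc) hR)
    (finite_HH hM m 0) hh0.le
  haveI := hq
  have hz : IsZero ((twF m).obj M) := IsZero.of_epi_eq_zero q (Sigma.hom_ext _ _ fun i => i.elim0)
  obtain ⟨e1⟩ := twF_twF_iso M m (-m) 0 (by ring)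
  obtain ⟨e2⟩ := twF_zero_iso (k := k) (n := n) M
  exact IsZero.of_iso ((twF (-m)).map_isZero hz) (e1 ≪≫ e2).symm

/-- The difference of a polynomial with its translate. -/
abbrev diff (φ : Polynomial ℚ) : Polynomial ℚ := φ - φ.comp (X - C 1)

theorem degree_diff {φ : Polynomial ℚ} {D : ℕ} (h : φ.degree < ((D + 1 : ℕ) : WithBot ℕ)) :
    (diff φ).degree < (D : WithBot ℕ) := by
  by_cases h0 : φ = 0
  · simp [diff, h0]
  have hdeg : φ.natDegree = (φ.comp (X - C 1)).natDegree := by rw [natDegree_comp, natDegree_X_sub_C, mul_one]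
  have hne : φ.comp (X - C 1) ≠ 0 := by
    intro hz
    have h2 : (φ.comp (X - C 1)).comp (X + C 1) = φ := by
      rw [comp_assoc, sub_comp, X_comp, C_comp, add_sub_cancel_right, comp_X]
    rw [hz, Polynomial.zero_comp] at h2
    exact h0 h2.symm
  have hlead : φ.leadingCoeff = (φ.comp (X - C 1)).leadingCoeff := by
    rw [leadingCoeff_comp (by rw [natDegree_X_sub_C]; exact one_ne_zero), leadingCoeff_X_sub_C, one_pow, mul_one]
  have h1 : (diff φ).degree < φ.degree :=
    degree_sub_lt_left (by rw [degree_eq_natDegree h0, degree_eq_natDegree hne, hdeg]) h0 hlead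
  have h2 : φ.natDegree < D + 1 := (natDegree_lt_iff_degree_lt h0).2 h
  refine lt_of_lt_of_le h1 ?_
  rw [degree_eq_natDegree h0]
  exact_mod_cast Nat.le_of_lt_succ h2

theorem hasPoly_cokernel {M : (Proj (CohB1.polyGrading n k)).Modules} (hM : Coh.IsCoh M) {φ : Polynomial ℚ}
    (hφ : HasPoly M φ) (μ : (twF (-1)).obj M ⟶ M) [Mono μ] : HasPoly (cokernel μ) (diff φ) := fun d => by
  have hS : (ShortComplex.mk μ (cokernel.π μ) (cokernel.condition μ)).ShortExact :=
    ShortComplex.ShortExact.mk' (ShortComplex.exact_of_g_is_cokernel _ (cokernelIsCokernel μ)) inferInstance inferInstance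
  have hM1 := isCoh_twistBy hM (-1)
  have h := euler_twSeq hS hM1 hM (QCoh.isCoh_cokernel hM1.1 hM μ) d
  obtain ⟨e⟩ := twF_twF_iso M (-1) d (d - 1) (by ring)
  rw [CurveCohLib.euler_congr (k := k) e] at h
  have h' := congrArg (fun z : ℤ => (z : ℚ)) h
  simp only [Int.cast_add] at h'
  rw [hφ d, hφ (d - 1)] at h'
  simp only [diff, eval_sub, eval_comp, eval_X, eval_C]
  push_cast at h' ⊢
  linarith

theorem reg_cokernel {M : (Proj (CohB1.polyGrading n k)).Modules} (hM : Coh.IsCoh M) {m : ℤ} (h : Reg M m)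
    (μ : (twF (-1)).obj M ⟶ M) [Mono μ] : Reg (cokernel μ) m := fun q hq => by
  have hS : (ShortComplex.mk μ (cokernel.π μ) (cokernel.condition μ)).ShortExact :=
    ShortComplex.ShortExact.mk' (ShortComplex.exact_of_g_is_cokernel _ (cokernelIsCokernel μ)) inferInstance inferInstance
  refine PnCoh.Finite.subsingleton_HH_X₃ (shortExact_twF hS (m - q)) q (h q hq) ?_
  obtain ⟨e⟩ := twF_twF_iso M (-1) (m - q) (m - ((q + 1 : ℕ) : ℤ)) (by push_cast; ring)
  exact QCoh.subsingleton_HH_of_iso e.symm (q + 1) (h (q + 1) (by omega))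

/-- In a map of left exact rows injective on the right, the induced map of cokernels is injective. -/
theorem mono_cokernel_map_of_rows {C : Type*} [Category C] [Abelian C] {S S' : ShortComplex C} (hS : S.Exact) [Mono S.f]
    [Mono S'.f] (φ : S ⟶ S') [Mono φ.τ₃] :
    Mono (cokernel.map φ.τ₁ φ.τ₂ S.f S'.f φ.comm₁₂) := by
  have hz : ∀ c : PullbackCone S'.f φ.τ₂, c.snd ≫ S.g = 0 := fun c => by
    rw [← cancel_mono φ.τ₃, Limits.zero_comp, Category.assoc, ← φ.comm₂₃, ← Category.assoc, ← c.condition,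
      Category.assoc, S'.zero, Limits.comp_zero]
  refine Abelian.mono_cokernel_map_of_isPullback (sq := (⟨⟨φ.comm₁₂⟩, ⟨PullbackCone.IsLimit.mk _
    (fun c => hS.lift c.snd (hz c)) (fun c => ?_) (fun c => hS.lift_f _ _) (fun c m _ h2 => ?_)⟩⟩ :
      IsPullback φ.τ₁ S.f S'.f φ.τ₂))
  · rw [← cancel_mono S'.f, Category.assoc, φ.comm₁₂, ← Category.assoc, hS.lift_f]
    exact c.condition.symm
  · rw [← cancel_mono S.f, h2, hS.lift_f]

theorem exists_comparison {S : ShortComplex (Proj (CohB1.polyGrading n k)).Modules} (hS : S.ShortExact)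
    (μ : twF (k := k) (n := n) (-1) ⟶ 𝟭 _) (h₂ : Mono (μ.app S.X₂)) (h₃ : Mono (μ.app S.X₃)) :
    Mono (μ.app S.X₁) ∧ ∃ f' : cokernel (μ.app S.X₁) ⟶ cokernel (μ.app S.X₂), Mono f' := by
  haveI := hS.mono_f
  haveI : (twF (k := k) (n := n) (-1)).Additive := RegEpi.additive_twF _
  let S₁ := S.map (twF (k := k) (n := n) (-1))
  have hS₁ : S₁.ShortExact := shortExact_twF hS (-1)
  haveI : Mono S₁.f := hS₁.mono_f
  let φ : S₁ ⟶ S :=
    { τ₁ := μ.app S.X₁
      τ₂ := μ.app S.X₂
      τ₃ := μ.app S.X₃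
      comm₁₂ := (μ.naturality S.f).symm
      comm₂₃ := (μ.naturality S.g).symm }
  haveI : Mono φ.τ₂ := h₂
  haveI : Mono φ.τ₃ := h₃
  haveI hm : Mono φ.τ₁ := mono_of_mono_fac φ.comm₁₂
  exact ⟨hm, _, mono_cokernel_map_of_rows hS₁.exact φ⟩

variable [Infinite k]

/-- A general linear form gives compatible injective multiplications. -/
theorem exists_step {E F : (Proj (CohB1.polyGrading n k)).Modules} (hE : Coh.IsCoh E) (hF : Coh.IsCoh F)
    (f : F ⟶ E) [Mono f] :
    ∃ (μE : (twF (-1)).obj E ⟶ E) (μF : (twF (-1)).obj F ⟶ F) (_ : Mono μE) (_ : Mono μF)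
      (f' : cokernel μF ⟶ cokernel μE), Mono f' := by
  have hQ : Coh.IsCoh (cokernel f) := QCoh.isCoh_cokernel hF.1 hE f
  obtain ⟨σ, hσ⟩ := exists_avoid hE hQ
  haveI hmE := mono_mu σ hE fun y hy => hσ y (Or.inl hy)
  haveI hmQ := mono_mu σ hQ fun y hy => hσ y (Or.inr hy)
  have hS : (ShortComplex.mk f (cokernel.π f) (cokernel.condition f)).ShortExact :=
    ShortComplex.ShortExact.mk' (ShortComplex.exact_of_g_is_cokernel _ (cokernelIsCokernel f)) inferInstance inferInstance
  obtain ⟨hmF, f', hf'⟩ := exists_comparison hS (mu σ) hmE hmQ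
  exact ⟨(mu σ).app E, (mu σ).app F, hmE, hmF, f', hf'⟩

/-- Mumford: subsheaves with a given Hilbert polynomial of regular sheaves with a given Hilbert
polynomial are uniformly regular. -/
theorem exists_regularity_bound (D : ℕ) : ∀ (ψ φ : Polynomial ℚ) (m₀ : ℤ), ψ.degree < (D : WithBot ℕ) →
    ∃ R : ℤ, ∀ (E F : (Proj (CohB1.polyGrading n k)).Modules) (f : F ⟶ E), Mono f → Coh.IsCoh E → Coh.IsCoh F →
      Reg E m₀ → HasPoly E ψ → HasPoly F φ → Reg F R := by
  induction D with
  | zero =>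
    intro ψ φ m₀ hψ
    have hψ0 : ψ = 0 := degree_eq_bot.1 (Nat.WithBot.lt_zero_iff.1 hψ)
    subst hψ0
    refine ⟨m₀, fun E F f hf hE hF hr hpE _ q hq => ?_⟩
    have hz : IsZero F := IsZero.of_mono f (isZero_of_poly_zero hE hr hpE)
    exact Euler.subsingleton_HH_of_isZero ((twF _).map_isZero hz) q
  | succ D ih =>
    intro ψ φ m₀ hψ
    obtain ⟨R', hR'⟩ := ih (diff ψ) (diff φ) m₀ (degree_diff hψ)
    let R'' := max R' (m₀ + 1)
    let j := R'' - 1
    refine ⟨R'' + ⌊ψ.eval (j : ℚ) - φ.eval (j : ℚ)⌋.toNat, fun E F f hf hE hF hr hpE hpF => ?_⟩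
    haveI := hf
    obtain ⟨μE, μF, hμE, hμF, f', hf'⟩ := exists_step hE hF f
    have hF1 := isCoh_twistBy hF (-1)
    have hG : Coh.IsCoh (cokernel μF) := QCoh.isCoh_cokernel hF1.1 hF μF
    have hGE : Coh.IsCoh (cokernel μE) := QCoh.isCoh_cokernel (isCoh_twistBy hE (-1)).1 hE μE
    have hGreg : Reg (cokernel μF) R'' :=
      (hR' _ _ f' hf' hGE hG (reg_cokernel hE hr μE) (hasPoly_cokernel hE hpE μE)
        (hasPoly_cokernel hF hpF μF)).mono hG (le_max_left _ _)
    let T : RegDescent.Setup (k := k) (n := n) F (cokernel μF) R'' :=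
      { ι := μF
        π := cokernel.π μF
        w := cokernel.condition μF
        exact := ShortComplex.ShortExact.mk' (ShortComplex.exact_of_g_is_cokernel _ (cokernelIsCokernel μF))
          inferInstance inferInstance
        cohF := hF
        cohG := hG
        reg := fun q hq _ => hGreg q hq
        finH1 := fun i => finite_HH hF i 1 }
    have hb : (RegDescent.h1 (k := k) F (R'' - 1) : ℤ) ≤ ⌊ψ.eval (j : ℚ) - φ.eval (j : ℚ)⌋.toNat := by
      haveI := CurveCohLib.isNoetherian_of_proper (k := k) (X := PP)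
      have hle := h0_le_of_mono f hE j
      have hEj := euler_eq_h0 hE hr j (by omega)
      have hFj : Curv2.euler k PP ((twF j).obj F) = (Module.finrank k (Coh.HH PP ((twF j).obj F) 0) : ℤ) -
          RegDescent.h1 (k := k) F j := by
        refine (Euler.euler_eq_sum k ((twF j).obj F) 2 fun q hq =>
          RegDescent.subsingleton_high T q hq j (by omega)).trans ?_
        simp [Finset.sum_range_succ, RegDescent.h1]
        ring
      have h1 := hpE j
      have h2 := hpF j
      rw [hEj] at h1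
      rw [hFj] at h2
      rw [← h1, ← h2, ← Int.cast_sub, Int.floor_intCast]
      show (RegDescent.h1 (k := k) F j : ℤ) ≤ _
      omega
    intro q hq
    rcases Nat.lt_or_ge q 2 with h | h
    · obtain rfl : q = 1 := by omega
      exact RegDescent.subsingleton_one T _ (by push_cast; omega)
    · exact RegDescent.subsingleton_high T q h _ (by omega)

end Groth.Agent.Bdd

end
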