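import Groth.Agent.Bdd.Regular

/-!
# Members of a bounded family are quotients of a common sheaf
-/

set_option autoImplicit false
set_option linter.style.haveILetI false
set_option linter.unusedSectionVars false
set_option backward.isDefEq.respectTransparency false
set_option backward.isDefEq.respectTransparency.types false
set_option maxHeartbeats 800000
attribute [-instance] CategoryTheory.catToReflQuiver

universe u

open CategoryTheory CategoryTheory.Limits AlgebraicGeometry TopologicalSpace Opposite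

noncomputable section

namespace Groth.Agent.Bdd

open Groth.Agent
open scoped Groth.Agent.H23.PicMul

variable {k : Type u} [Field k] {n : ℕ}

attribute [local instance] FppfPic.MReg.projOver

variable {X : Scheme.{u}} [X.Over (Spec (CommRingCat.of k))] (i : X ⟶ CohB1.ProjSpace n k) [IsClosedImmersion i]
  [IsProper (X ↘ Spec (CommRingCat.of k))]

theorem euler_eq_h0 {F : X.Modules} (hF : Coh.IsCoh F) (m : ℤ) (hreg : Pic13.IsMRegular k i F m) :
    Curv2.euler k X (Pic13.twistOn k i F m) = Module.finrank k (Coh.HH X (Pic13.twistOn k i F m) 0) := by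
  haveI := CurveCohLib.isNoetherian_of_proper (k := k) (X := X)
  refine (Euler.euler_eq_sum k (Pic13.twistOn k i F m) 1 fun q hq => ?_).trans (by simp)
  have := (FppfPic.MReg.main k n i F hF m hreg (m + q) (by omega)).1 q hq
  simpa using this

/-- The members of a bounded family are quotients of a common sum of twists. -/
theorem exists_common_quotient (P : X.Modules → Prop) (hP : ∀ F, P F → Coh.IsCoh F) (m : ℤ)
    (hreg : ∀ F, P F → Pic13.IsMRegular k i F m) (s : Finset (Polynomial ℚ))
    (hs : ∀ F, P F → ∃ φ ∈ s, ∀ d : ℤ, (FGA.eulerCharLE k X (Pic13.twistOn k i F d) n : ℚ) = φ.eval (d : ℚ)) :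
    ∃ (m : ℤ) (N : ℕ) (E : X.Modules) (c : Fin N → (Pic13.twistOn k i (Coh.structureModule X) (-m) ⟶ E)),
      Nonempty (IsColimit (Cofan.mk E c)) ∧ ∀ F, P F → ∃ p : E ⟶ F, Epi p := by
  haveI := CurveCohLib.isNoetherian_of_proper (k := k) (X := X)
  let N := s.sup fun φ : Polynomial ℚ => ⌊φ.eval (m : ℚ)⌋.toNat
  let O' := Pic13.twistOn k i (Coh.structureModule X) (-m)
  refine ⟨m, N, ∐ fun _ : Fin N => O', Sigma.ι (fun _ : Fin N => O'), ⟨coproductIsCoproduct _⟩, fun F hF => ?_⟩
  obtain ⟨φ, hφs, hφ⟩ := hs F hF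
  have hle : Module.finrank k (Coh.HH X (Pic13.twistOn k i F m) 0) ≤ N := by
    have h1 := hφ m
    rw [TauNum.eulerCharLE_twistOn i (hP F hF), euler_eq_h0 i (hP F hF) m (hreg F hF), Int.cast_natCast] at h1
    refine le_trans ?_ (Finset.le_sup (f := fun φ : Polynomial ℚ => ⌊φ.eval (m : ℚ)⌋.toNat) hφs)
    rw [← h1, Int.floor_natCast, Int.toNat_natCast]
  obtain ⟨q, hq⟩ := exists_epi_free_of_finrank (k := k)
    (FppfPic.MReg.main k n i F (hP F hF) m (hreg F hF) m le_rfl).2
    (CurveCohLib.finite_HH (k := k) (TauNum.isCoh_twistOn i (hP F hF) m) 0) hle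
  let T := AmpleVan.tw ((Scheme.Modules.pullback i).obj (Twist.twistProjSpace n k (-m)))
  haveI : T.IsEquivalence :=
    AmpleVan.isEquivalence_tw (PicClLib.isInvertible_pullback i (TauNum.isInvertible_twist _))
  haveI := hq
  haveI : Epi (T.map q) := inferInstance
  obtain ⟨e⟩ : Nonempty (T.obj (Pic13.twistOn k i F m) ≅ F) := by
    refine H23.PicMul.cl_eq_iff.1 ?_
    show PicF.cl (CohB1.tensorMod (Pic13.twistOn k i F m) _) = _
    rw [Pic13.twistOn, H23.PicMul.cl_tensor, H23.PicMul.cl_tensor, mul_assoc]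
    refine (congrArg (PicF.cl F * ·) ?_).trans (mul_one _)
    show PicF.pullCl i (PicF.cl _) * PicF.pullCl i (PicF.cl _) = 1
    rw [← H23.PicMul.pullCl_mul, TauNum.cl_twist_add, add_neg_cancel,
      show (0 : ℤ) = ((0 : ℕ) : ℤ) from rfl, TauNum.cl_twist_natCast, pow_zero, H23.PicMul.pullCl_one]
  exact ⟨(PreservesCoproduct.iso T fun _ : Fin N => Coh.structureModule X).inv ≫ T.map q ≫ e.hom, inferInstance⟩

end Groth.Agent.Bdd

end
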