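import Groth.Agent.Bdd.Free
import Groth.Agent.FppfPic.MRegSeq
import Groth.Agent.Lib.SyzygyPn
import Groth.Agent.S0843
import Groth.Agent.TauNum.Bounded

/-!
# Regular sheaves with given Hilbert polynomial form a bounded family
-/

set_option autoImplicit false
set_option linter.style.haveILetI false
set_option linter.unusedSectionVars false
set_option backward.isDefEq.respectTransparency false
set_option backward.isDefEq.respectTransparency.types false
set_option maxHeartbeats 1000000
attribute [-instance] CategoryTheory.catToReflQuiver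

universe u

open CategoryTheory CategoryTheory.Limits AlgebraicGeometry TopologicalSpace Opposite
open Groth.Agent.RegEpi Groth.Agent.ProjRegular Groth.Agent.PnCoh.Finite

noncomputable section

namespace Groth.Agent.Bdd

open Groth.Agent
open scoped Groth.Agent.H23.PicMul

variable {k : Type u} [Field k] {n : ℕ}

local notation "PP" => Proj (CohB1.polyGrading n k)

attribute [local instance] FppfPic.MReg.projOver

theorem hyp : Syzygy.Hyp k n where
  fin := fun M hM => projSpace_finite_HH n k M hM 0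
  one := by
    obtain ⟨φ⟩ := unitIso (k := k) (n := n)
    obtain ⟨e⟩ := S0843.result k n 0
    refine ((RegDescent.HHequiv (k := k) φ 0).trans e).finrank_eq.trans ?_
    rw [MvPolynomial.homogeneousSubmodule_zero, Submodule.one_eq_span]
    exact finrank_span_singleton one_ne_zero

variable (k n) in
/-- A bound for the sections of the twisted free module of rank `b`. -/
def bound (b : ℕ) : ℕ :=
  Module.finrank k (Coh.HH PP ((twF 1).obj (∐ fun _ : Fin b => Coh.structureModule PP)) 0)

/-- A regular sheaf on projective space is a cokernel of a map out of a bounded free module into a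
twisted free module. -/
theorem exists_coker_presentation {G : (Proj (CohB1.polyGrading n k)).Modules} (hG : Coh.IsCoh G)
    (hreg : ∀ i : ℕ, 1 ≤ i → Subsingleton (Coh.HH PP ((twF (-(i : ℤ))).obj G) i)) {b : ℕ}
    (hb : Module.finrank k (Coh.HH PP G 0) = b) :
    ∃ ψ : FlatMod.freeMod PP (bound k n b) ⟶ (twF 1).obj (∐ fun _ : Fin b => Coh.structureModule PP),
      Nonempty (cokernel ψ ≅ (twF 1).obj G) := by
  subst hb
  haveI hP : IsNoetherian (Proj (CohB1.polyGrading n k)) := Proj16.isNoetherian_proj _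
  haveI : IsLocallyNoetherian (Proj (CohB1.polyGrading n k)) := hP.toIsLocallyNoetherian
  let T : Syzygy.St k n 0 := ⟨G, hG, hreg, fun q hq => absurd hq (Nat.not_lt_zero q)⟩
  obtain ⟨T', ι, p, w, hex⟩ := Syzygy.exists_step hyp T
  have hs := RegDescent.twSeq_exact (coords k n) coords_mem coords_cover hex 1
  obtain ⟨e1⟩ := twF_twF_iso T'.G (-1) 1 0 (by norm_num)
  obtain ⟨e2⟩ := twF_zero_iso (k := k) (n := n) T'.G
  let e := (e1 ≪≫ e2).symm
  have hs' := Syzygy.shortExact_replace hs e
  have hle : Module.finrank k (Coh.HH PP T'.G 0) ≤ bound k n (Module.finrank k (Coh.HH PP G 0)) := by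
    haveI : Module.Finite k (Coh.HH PP ((twF 1).obj (∐ fun _ : Fin (Module.finrank k (Coh.HH PP G 0)) =>
        Coh.structureModule PP)) 0) :=
      projSpace_finite_HH n k _ (ProjRegular.isCoh_twistBy (Syzygy.isCoh_sigma_O _) 1) 0
    exact LinearMap.finrank_le_finrank_of_injective (PnDual.HHlin_f_injective (k := k) hs')
  have hgg := ProjRegular.isGloballyGenerated coords_mem coords_cover coords_noetherian
    (good_of_isCoh coords_mem T'.coh) T'.reg
  obtain ⟨q, hq⟩ := exists_epi_free_of_finrank (k := k) hgg (projSpace_finite_HH n k _ T'.coh 0) hle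
  let f := e.hom ≫ (twF 1).map ι
  have hfg : f ≫ (twF 1).map p = 0 := by
    simp only [f, Category.assoc, ← Functor.map_comp, w, Functor.map_zero, comp_zero]
  haveI : Epi ((twF 1).map p) := hs'.epi_g
  have hex' : (ShortComplex.mk f ((twF 1).map p) hfg).ShortExact := hs'
  have hzero : (q ≫ f) ≫ (twF 1).map p = 0 := by rw [Category.assoc, hfg, comp_zero]
  refine ⟨q ≫ f, ⟨cokernelEpiComp q f ≪≫ ?_⟩⟩
  exact hex'.exact.gIsCokernel.coconePointUniqueUpToIso (cokernelIsCokernel f) |>.symm

variable {X : Scheme.{u}} [X.Over (Spec (CommRingCat.of k))] (i : X ⟶ CohB1.ProjSpace n k) [IsClosedImmersion i]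
  (hi : i ≫ CohB1.ProjSpace.toSpec n k = X ↘ Spec (CommRingCat.of k))
  [IsProper (X ↘ Spec (CommRingCat.of k))]

include hi in
/-- A regular family with given Hilbert polynomial is bounded. -/
theorem isBounded_regular (m : ℤ) (φ : Polynomial ℚ) :
    Pic13.IsBounded k X (fun F : X.Modules => Coh.IsCoh F ∧ Pic13.IsMRegular k i F m ∧
      ∀ d : ℤ, (FGA.eulerCharLE k X (Pic13.twistOn k i F d) n : ℚ) = φ.eval (d : ℚ)) := by
  haveI := CurveCohLib.isNoetherian_of_proper (k := k) (X := X)
  haveI hP : IsNoetherian (Proj (CohB1.polyGrading n k)) := Proj16.isNoetherian_proj _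
  haveI : IsLocallyNoetherian (CohB1.ProjSpace n k) := hP.toIsLocallyNoetherian
  let b := ⌊φ.eval (m : ℚ)⌋.toNat
  let B₀ : (CohB1.ProjSpace n k).Modules := (twF 1).obj (∐ fun _ : Fin b => Coh.structureModule PP)
  have hB₀ : Coh.IsCoh B₀ := ProjRegular.isCoh_twistBy (Syzygy.isCoh_sigma_O _) 1
  let B := (Scheme.Modules.pullback i).obj B₀
  have hB : Coh.IsCoh B := ZClosLib.isCoh_pullback _ hB₀
  let N := (Scheme.Modules.pullback i).obj (Twist.twistProjSpace n k (-(m + 1)))
  have hN : PicF.IsInvertible N := PicClLib.isInvertible_pullback i (TauNum.isInvertible_twist _)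
  refine isBounded_mono (isBounded_tensor (isBounded_coker_free hB (CurveCohLib.finite_HH (k := k) hB 0)
    (bound k n b)) hN) ?_
  rintro F ⟨hF, hreg, hφ⟩
  let P := (Scheme.Modules.pushforward i).obj F
  have hPc : Coh.IsCoh P := QCoh.isCoh_pushforward_finite i hF
  let G : (Proj (CohB1.polyGrading n k)).Modules := (twF m).obj P
  have hGreg : ∀ j : ℕ, 1 ≤ j → Subsingleton (Coh.HH PP ((twF (-(j : ℤ))).obj G) j) := fun j hj => by
    obtain ⟨e⟩ := twF_twF_iso P m (-(j : ℤ)) (m - j) (by ring)
    exact QCoh.subsingleton_HH_of_iso e.symm j ((FppfPic.MReg.hh_iff k n i F hF _ j).1 (hreg j hj))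
  have hb : Module.finrank k (Coh.HH PP G 0) = b := by
    refine (FppfPic.MReg.finrank_push k n X i hi F hF m 0).symm.trans ?_
    have h1 := hφ m
    rw [TauNum.eulerCharLE_twistOn i hF] at h1
    have h2 : Curv2.euler k X (Pic13.twistOn k i F m) = Module.finrank k (Coh.HH X (Pic13.twistOn k i F m) 0) := by
      refine (Euler.euler_eq_sum k (Pic13.twistOn k i F m) 1 fun q hq => ?_).trans (by simp)
      have := (FppfPic.MReg.main k n i F hF m hreg (m + q) (by omega)).1 q hq
      simpa using this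
    rw [h2, Int.cast_natCast] at h1
    show _ = ⌊φ.eval (m : ℚ)⌋.toNat
    rw [← h1, Int.floor_natCast, Int.toNat_natCast]
  obtain ⟨ψ, ⟨c⟩⟩ := exists_coker_presentation (ProjRegular.isCoh_twistBy hPc m) hGreg hb
  obtain ⟨e⟩ := twF_twF_iso P m 1 (m + 1) rfl
  obtain ⟨t⟩ := FppfPic.MReg.push_twist k n i F (m + 1)
  haveI := PushAmp.isIso_counit_closed_all i (Pic13.twistOn k i F (m + 1))
  obtain ⟨u⟩ : Nonempty ((Scheme.Modules.pullback i).obj (Coh.structureModule (CohB1.ProjSpace n k)) ≅
      Coh.structureModule X) := H23.PicMul.cl_eq_iff.1 (H23.PicMul.pullCl_one i)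
  let a : (Scheme.Modules.pullback i).obj (FlatMod.freeMod (CohB1.ProjSpace n k) (bound k n b)) ≅
      FlatMod.freeMod X (bound k n b) :=
    PreservesCoproduct.iso (Scheme.Modules.pullback i) _ ≪≫ Sigma.mapIso fun _ => u
  refine ⟨F, ⟨Pic13.twistOn k i F (m + 1), ⟨a.inv ≫ (Scheme.Modules.pullback i).map ψ, ⟨?_⟩⟩, ?_⟩, ⟨Iso.refl _⟩⟩
  · exact cokernelEpiComp a.inv _ ≪≫ (PreservesCokernel.iso (Scheme.Modules.pullback i) ψ).symm ≪≫
      (Scheme.Modules.pullback i).mapIso (c ≪≫ e ≪≫ t) ≪≫
      asIso ((Scheme.Modules.pullbackPushforwardAdjunction i).counit.app (Pic13.twistOn k i F (m + 1)))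
  · refine H23.PicMul.cl_eq_iff.1 ?_
    show PicF.cl (CohB1.tensorMod (Pic13.twistOn k i F (m + 1)) N) = _
    rw [Pic13.twistOn, H23.PicMul.cl_tensor, H23.PicMul.cl_tensor, mul_assoc]
    refine (congrArg (PicF.cl F * ·) ?_).trans (mul_one _)
    show PicF.pullCl i (PicF.cl _) * PicF.pullCl i (PicF.cl _) = 1
    rw [← H23.PicMul.pullCl_mul, TauNum.cl_twist_add, add_neg_cancel,
      show (0 : ℤ) = ((0 : ℕ) : ℤ) from rfl, TauNum.cl_twist_natCast, pow_zero, H23.PicMul.pullCl_one]

end Groth.Agent.Bdd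

end
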