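import Groth.Agent.Bdd.Coker
import Groth.Agent.QCoh.DevissageSum
import Groth.Agent.SheafHomX.Coherent
import Groth.Agent.CurveAlgEquiv.Group

/-!
# Unions of bounded families are bounded
-/

set_option autoImplicit false
set_option linter.style.haveILetI false
set_option linter.unusedSectionVars false
set_option backward.isDefEq.respectTransparency false
set_option backward.isDefEq.respectTransparency.types false
set_option maxHeartbeats 800000
attribute [-instance] CategoryTheory.catToReflQuiver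
attribute [local instance] Groth.Agent.QCoh.hasFiniteBiproducts

universe u

open CategoryTheory CategoryTheory.Limits AlgebraicGeometry TopologicalSpace Opposite

noncomputable section

namespace Groth.Agent.Bdd

open Groth.Agent

theorem isIso_smulHom_of_eq_neg_one {X : Scheme.{u}} {t : Γ(X, ⊤)} (ht : t = -1) (M : X.Modules) :
    IsIso (LCZLib.smulHom t M) := by
  have h : LCZLib.smulHom t M ≫ LCZLib.smulHom t M = 𝟙 M := by
    refine Scheme.Modules.hom_ext _ _ fun V => ?_
    ext s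
    show QCoh.rf X (le_top : V ≤ ⊤) t • (QCoh.rf X (le_top : V ≤ ⊤) t • (show Γ(M, V) from s)) = s
    rw [ht, show QCoh.rf X (le_top : V ≤ ⊤) (-1 : Γ(X, ⊤)) = -1 from (map_neg _ _).trans (congrArg _ (map_one _))]
    simp
  exact ⟨⟨LCZLib.smulHom t M, h, h⟩⟩

theorem isCoh_biprod {X : Scheme.{u}} {M N : X.Modules} (hM : Coh.IsCoh M) (hN : Coh.IsCoh N) :
    Coh.IsCoh (M ⊞ N) := by
  let T : ULift.{u} WalkingPair → X.Modules := fun b => match b.down with
    | .left => M
    | .right => N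
  have hT : Coh.IsCoh (⨁ T) := QCoh.isCoh_biproduct T fun b => by
    rcases b with ⟨_ | _⟩ <;> assumption
  refine SheafHomX.isCoh_of_iso ?_ hT
  exact biproduct.whiskerEquiv (g := pairFunction M N) Equiv.ulift (fun b => by
    rcases b with ⟨_ | _⟩ <;> exact Iso.refl _) ≪≫ biproduct.isoCoproduct _ ≪≫ (biprod.isoCoprod M N).symm

variable {k : Type u} [Field k] {X : Scheme.{u}} [X.Over (Spec (CommRingCat.of k))] [IsLocallyNoetherian X]
  [LocallyOfFiniteType (X ↘ Spec (CommRingCat.of k))]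

/-- The union of two bounded families is bounded. -/
theorem isBounded_or {P Q : X.Modules → Prop} (hP : Pic13.IsBounded k X P) (hQ : Pic13.IsBounded k X Q) :
    Pic13.IsBounded k X (fun F => P F ∨ Q F) := by
  by_cases hP0 : ∃ F, P F
  swap
  · exact isBounded_mono hQ fun F hF => ⟨F, hF.resolve_left fun h => hP0 ⟨F, h⟩, ⟨Iso.refl _⟩⟩
  by_cases hQ0 : ∃ F, Q F
  swap
  · exact isBounded_mono hP fun F hF => ⟨F, hF.resolve_right fun h => hQ0 ⟨F, h⟩, ⟨Iso.refl _⟩⟩
  obtain ⟨T₁, q₁, h11, h12, F₁, hF₁, hm₁⟩ := hP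
  obtain ⟨T₂, q₂, h21, h22, F₂, hF₂, hm₂⟩ := hQ
  haveI := h11; haveI := h12; haveI := h21; haveI := h22
  obtain ⟨a₀, ha₀, -⟩ := hm₁ _ hP0.choose_spec
  obtain ⟨b₀, hb₀, -⟩ := hm₂ _ hQ0.choose_spec
  let R := Polynomial k
  let qA : Spec (CommRingCat.of R) ⟶ Spec (CommRingCat.of k) := Spec.map (CommRingCat.ofHom Polynomial.C)
  haveI : LocallyOfFiniteType qA := HasRingHomProperty.Spec_iff.2 (by
    show (Polynomial.C : k →+* R).FiniteType
    exact RingHom.finiteType_algebraMap.2 inferInstance)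
  let qq := pullback.fst q₁ q₂ ≫ q₁
  let T := pullback qq qA
  let q : T ⟶ Spec (CommRingCat.of k) := pullback.fst qq qA ≫ qq
  haveI : QuasiCompact qA := inferInstance
  haveI : IsLocallyNoetherian T := LocallyOfFiniteType.isLocallyNoetherian q
  let f := X ↘ Spec (CommRingCat.of k)
  let pr : Pic13.prodK k X q ⟶ T := pullback.snd f q
  haveI : LocallyOfFiniteType pr := inferInstanceAs (LocallyOfFiniteType (pullback.snd f q))
  haveI : IsLocallyNoetherian (Pic13.prodK k X q) := LocallyOfFiniteType.isLocallyNoetherian pr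
  let P₁ : Pic13.prodK k X q ⟶ Pic13.prodK k X q₁ := pullback.lift (pullback.fst _ _)
    (pullback.snd _ _ ≫ pullback.fst qq qA ≫ pullback.fst q₁ q₂)
    (by rw [Category.assoc, Category.assoc, pullback.condition])
  let P₂ : Pic13.prodK k X q ⟶ Pic13.prodK k X q₂ := pullback.lift (pullback.fst _ _)
    (pullback.snd _ _ ≫ pullback.fst qq qA ≫ pullback.snd q₁ q₂)
    (by rw [Category.assoc, Category.assoc, ← pullback.condition (f := q₁), pullback.condition])
  let u : Γ(Pic13.prodK k X q, ⊤) := Coh.toGlobal (pr ≫ pullback.snd qq qA) Polynomial.X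
  let v : Γ(Pic13.prodK k X q, ⊤) := Coh.toGlobal (pr ≫ pullback.snd qq qA) (Polynomial.X - 1)
  let G₁ := cokernel (LCZLib.smulHom u ((Scheme.Modules.pullback P₁).obj F₁))
  let G₂ := cokernel (LCZLib.smulHom v ((Scheme.Modules.pullback P₂).obj F₂))
  have hG₁ : Coh.IsCoh G₁ :=
    QCoh.isCoh_cokernel (ZClosLib.isCoh_pullback _ hF₁).1 (ZClosLib.isCoh_pullback _ hF₁) _
  have hG₂ : Coh.IsCoh G₂ :=
    QCoh.isCoh_cokernel (ZClosLib.isCoh_pullback _ hF₂).1 (ZClosLib.isCoh_pullback _ hF₂) _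
  refine ⟨T, q, inferInstance, inferInstance, G₁ ⊞ G₂, isCoh_biprod hG₁ hG₂, fun L hL => ?_⟩
  -- the point attached to two points and a scalar
  have key : ∀ (a : Spec (CommRingCat.of k) ⟶ T₁) (ha : a ≫ q₁ = 𝟙 _) (b : Spec (CommRingCat.of k) ⟶ T₂)
      (hb : b ≫ q₂ = 𝟙 _) (c : k), ∃ (t : Spec (CommRingCat.of k) ⟶ T) (ht : t ≫ q = 𝟙 _),
      Pic13.sliceAt k X q t ht ≫ P₁ = Pic13.sliceAt k X q₁ a ha ∧
      Pic13.sliceAt k X q t ht ≫ P₂ = Pic13.sliceAt k X q₂ b hb ∧
      (Pic13.sliceAt k X q t ht).appTop u = Coh.toGlobal f c ∧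
      (Pic13.sliceAt k X q t ht).appTop v = Coh.toGlobal f (c - 1) := by
    intro a ha b hb c
    have hc : Spec.map (CommRingCat.ofHom (Polynomial.evalRingHom c)) ≫ qA = 𝟙 _ := by
      rw [← Spec.map_comp, ← CommRingCat.ofHom_comp,
        show (Polynomial.evalRingHom c).comp Polynomial.C = RingHom.id k from RingHom.ext fun z => by simp,
        CommRingCat.ofHom_id, Spec.map_id]
    let ab : Spec (CommRingCat.of k) ⟶ pullback q₁ q₂ := pullback.lift a b (ha.trans hb.symm)
    have hab : ab ≫ qq = 𝟙 _ := by simp only [ab, qq, pullback.lift_fst_assoc, ha]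
    refine ⟨pullback.lift ab (Spec.map (CommRingCat.ofHom (Polynomial.evalRingHom c))) (hab.trans hc.symm),
      by simp only [q, pullback.lift_fst_assoc, hab], ?_, ?_, ?_, ?_⟩
    · apply pullback.hom_ext <;> simp [P₁, Pic13.sliceAt, ab]
    · apply pullback.hom_ext <;> simp [P₂, Pic13.sliceAt, ab]
    · rw [toGlobal_comp, ← Category.assoc, Pic13.sliceAt, pullback.lift_snd, Category.assoc, pullback.lift_snd,
        toGlobal_spec, Polynomial.coe_evalRingHom, Polynomial.eval_X]
    · rw [toGlobal_comp, ← Category.assoc, Pic13.sliceAt, pullback.lift_snd, Category.assoc, pullback.lift_snd,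
        toGlobal_spec, Polynomial.coe_evalRingHom, Polynomial.eval_sub, Polynomial.eval_X, Polynomial.eval_one]
  rcases hL with hL | hL
  · obtain ⟨a, ha, ⟨e⟩⟩ := hm₁ L hL
    obtain ⟨t, ht, e₁, e₂, eu, ev⟩ := key a ha b₀ hb₀ 0
    let S := Scheme.Modules.pullback (Pic13.sliceAt k X q t ht)
    have h1 : S.map (LCZLib.smulHom u ((Scheme.Modules.pullback P₁).obj F₁)) = 0 := by
      rw [pullback_smulHom, eu, map_zero]
      exact smulHom_zero _
    haveI h2 : IsIso (S.map (LCZLib.smulHom v ((Scheme.Modules.pullback P₂).obj F₂))) := by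
      rw [pullback_smulHom]
      exact isIso_smulHom_of_eq_neg_one (by rw [ev, zero_sub, map_neg, map_one]) _
    let A : S.obj G₁ ≅ L := PreservesCokernel.iso S _ ≪≫ cokernelIsoOfEq h1 ≪≫ cokernelZeroIsoTarget ≪≫
      (Scheme.Modules.pullbackComp _ P₁).app F₁ ≪≫ (Scheme.Modules.pullbackCongr e₁).app F₁ ≪≫ e
    have B : IsZero (S.obj G₂) := (isZero_cokernel_of_epi _).of_iso (PreservesCokernel.iso S _)
    haveI : PreservesBinaryBiproduct G₁ G₂ S := preservesBinaryBiproduct_of_preservesBiproduct S G₁ G₂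
    exact ⟨t, ht, ⟨S.mapBiprod G₁ G₂ ≪≫ (isoBiprodZero B).symm ≪≫ A⟩⟩
  · obtain ⟨b, hb, ⟨e⟩⟩ := hm₂ L hL
    obtain ⟨t, ht, e₁, e₂, eu, ev⟩ := key a₀ ha₀ b hb 1
    let S := Scheme.Modules.pullback (Pic13.sliceAt k X q t ht)
    haveI h1 : IsIso (S.map (LCZLib.smulHom u ((Scheme.Modules.pullback P₁).obj F₁))) := by
      rw [pullback_smulHom, eu, map_one]
      rw [smulHom_one]
      infer_instance
    have h2 : S.map (LCZLib.smulHom v ((Scheme.Modules.pullback P₂).obj F₂)) = 0 := by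
      rw [pullback_smulHom, ev, sub_self, map_zero]
      exact smulHom_zero _
    let A : S.obj G₂ ≅ L := PreservesCokernel.iso S _ ≪≫ cokernelIsoOfEq h2 ≪≫ cokernelZeroIsoTarget ≪≫
      (Scheme.Modules.pullbackComp _ P₂).app F₂ ≪≫ (Scheme.Modules.pullbackCongr e₂).app F₂ ≪≫ e
    have B : IsZero (S.obj G₁) := (isZero_cokernel_of_epi _).of_iso (PreservesCokernel.iso S _)
    haveI : PreservesBinaryBiproduct G₁ G₂ S := preservesBinaryBiproduct_of_preservesBiproduct S G₁ G₂
    exact ⟨t, ht, ⟨S.mapBiprod G₁ G₂ ≪≫ (isoZeroBiprod B).symm ≪≫ A⟩⟩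

/-- A finite union of bounded families is bounded. -/
theorem isBounded_exists_mem {ι : Type*} (s : Finset ι) {P : ι → X.Modules → Prop}
    (h : ∀ a ∈ s, Pic13.IsBounded k X (P a)) : Pic13.IsBounded k X (fun F => ∃ a ∈ s, P a F) := by
  classical
  induction s using Finset.induction with
  | empty =>
    refine ⟨Spec (CommRingCat.of k), 𝟙 _, inferInstance, inferInstance, Coh.structureModule _, ?_, fun L hL => ?_⟩
    · haveI : IsLocallyNoetherian (Pic13.prodK k X (𝟙 (Spec (CommRingCat.of k)))) :=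
        LocallyOfFiniteType.isLocallyNoetherian (pullback.snd (X ↘ Spec (CommRingCat.of k)) (𝟙 _))
      exact CurveDeg.isCoh_of_isInvertible CurveDeg.isInvertible_structureModule
    · obtain ⟨a, ha, -⟩ := hL
      exact absurd ha (Finset.notMem_empty a)
  | insert a s _ ih =>
    refine isBounded_mono (isBounded_or (h a (Finset.mem_insert_self a s))
      (ih fun b hb => h b (Finset.mem_insert_of_mem hb))) fun F hF => ?_
    obtain ⟨b, hb, hF⟩ := hF
    rcases Finset.mem_insert.1 hb with rfl | hb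
    · exact ⟨F, Or.inl hF, ⟨Iso.refl _⟩⟩
    · exact ⟨F, Or.inr ⟨b, hb, hF⟩, ⟨Iso.refl _⟩⟩

end Groth.Agent.Bdd

end
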