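import Groth.Agent.Bdd.Mumford
import Groth.Agent.Bdd.Union
import Groth.Agent.Bdd.Regular
import Groth.Agent.S14439

/-!
# Quotients of a fixed sheaf with given Hilbert polynomials form a bounded family
-/

set_option autoImplicit false
set_option linter.style.haveILetI false
set_option linter.unusedSectionVars false
set_option backward.isDefEq.respectTransparency false
set_option backward.isDefEq.respectTransparency.types false
set_option maxHeartbeats 1000000
attribute [-instance] CategoryTheory.catToReflQuiver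

universe u

open CategoryTheory CategoryTheory.Limits AlgebraicGeometry TopologicalSpace Opposite Polynomial
open Groth.Agent.RegEpi Groth.Agent.ProjRegular Groth.Agent.PnCoh.Finite

noncomputable section

namespace Groth.Agent.Bdd

open Groth.Agent
open scoped Groth.Agent.H23.PicMul

variable {k : Type u} [Field k] {n : ℕ}

local notation "PP" => Proj (CohB1.polyGrading n k)

attribute [local instance] FppfPic.HyperPn.projOver'

theorem exists_reg {M : (Proj (CohB1.polyGrading n k)).Modules} (hM : Coh.IsCoh M) : ∃ m : ℤ, Reg M m :=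
  S14439.exists_regular k n M hM

theorem reg_of_ses {S : ShortComplex (Proj (CohB1.polyGrading n k)).Modules} (hS : S.ShortExact)
    (h₁ : Coh.IsCoh S.X₁) (h₂ : Coh.IsCoh S.X₂) {R : ℤ} (hr₁ : Reg S.X₁ R) (hr₂ : Reg S.X₂ R) : Reg S.X₃ R :=
  fun q hq => PnCoh.Finite.subsingleton_HH_X₃ (shortExact_twF hS (R - q)) q (hr₂ q hq)
    (subsingleton_of_reg h₁ hr₁ (q + 1) _ (by omega) (by push_cast; omega))

theorem hasPoly_sub {S : ShortComplex (Proj (CohB1.polyGrading n k)).Modules} (hS : S.ShortExact)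
    (h₁ : Coh.IsCoh S.X₁) (h₂ : Coh.IsCoh S.X₂) (h₃ : Coh.IsCoh S.X₃) {ψ φ : Polynomial ℚ}
    (hp₂ : HasPoly S.X₂ ψ) (hp₃ : HasPoly S.X₃ φ) : HasPoly S.X₁ (ψ - φ) := fun d => by
  rw [eval_sub, ← hp₂ d, ← hp₃ d, euler_twSeq hS h₁ h₂ h₃ d]
  push_cast
  ring

/-- Quotients with given Hilbert polynomial are uniformly regular. -/
theorem exists_regularity_bound_quot [Infinite k] {E : (Proj (CohB1.polyGrading n k)).Modules} (hE : Coh.IsCoh E)
    (φ : Polynomial ℚ) :
    ∃ R : ℤ, ∀ (F : (Proj (CohB1.polyGrading n k)).Modules) (p : E ⟶ F), Epi p → Coh.IsCoh F →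
      HasPoly F φ → Reg F R := by
  obtain ⟨m₀, hm₀⟩ := exists_reg hE
  obtain ⟨ψ, hψ⟩ := exists_hasPoly hE
  obtain ⟨R, hR⟩ := exists_regularity_bound (k := k) (n := n) (ψ.natDegree + 1) ψ (ψ - φ) m₀
    (degree_le_natDegree.trans_lt (by exact_mod_cast Nat.lt_succ_self _))
  refine ⟨max R m₀, fun F p hp hF hpF => ?_⟩
  haveI := hp
  have hK : Coh.IsCoh (kernel p) := QCoh.isCoh_kernel hE hF p
  have hS : (ShortComplex.mk (kernel.ι p) p (kernel.condition p)).ShortExact :=
    { exact := ShortComplex.exact_of_f_is_kernel _ (kernelIsKernel p) }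
  have hrK := hR E (kernel p) (kernel.ι p) inferInstance hE hK hm₀ hψ (hasPoly_sub hS hK hE hF hψ hpF)
  exact reg_of_ses hS hK hE (hrK.mono hK (le_max_left _ _)) (hm₀.mono hE (le_max_right _ _))

theorem tensor_pullback_id {Y : Scheme.{u}} (F L : Y.Modules) :
    Nonempty (CohB1.tensorMod F ((Scheme.Modules.pullback (𝟙 Y)).obj L) ≅ CohB1.tensorMod F L) :=
  ⟨(DCoh.tensorBi.obj F).mapIso ((Scheme.Modules.pullbackId Y).app L)⟩

theorem twistOn_id_iso (F : (CohB1.ProjSpace n k).Modules) (d : ℤ) :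
    Nonempty (Pic13.twistOn k (𝟙 (CohB1.ProjSpace n k)) F d ≅ CohB1.tensorMod F (Twist.twistProjSpace n k d)) := by
  unfold Pic13.twistOn
  exact tensor_pullback_id (Y := CohB1.ProjSpace n k) F _

/-- Regular sheaves on projective space with given Hilbert polynomial are bounded. -/
theorem isBounded_reg_poly (R : ℤ) (φ : Polynomial ℚ) :
    Pic13.IsBounded k (CohB1.ProjSpace n k) (fun F => Coh.IsCoh F ∧ Reg F R ∧ HasPoly F φ) := by
  haveI : IsProper (CohB1.ProjSpace n k ↘ Spec (CommRingCat.of k)) := PnCoh.Chow.isProper_toSpec n k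
  refine isBounded_mono (isBounded_regular (k := k) (n := n) (𝟙 (CohB1.ProjSpace n k)) (Category.id_comp _) R φ)
    fun F hF => ⟨F, ⟨hF.1, fun q hq => ?_, fun d => ?_⟩, ⟨Iso.refl _⟩⟩
  · obtain ⟨e⟩ := twistOn_id_iso (k := k) F (R - q)
    exact QCoh.subsingleton_HH_of_iso e.symm q (hF.2.1 q hq)
  · obtain ⟨e⟩ := twistOn_id_iso (k := k) F d
    rw [TauNum.eulerCharLE_twistOn (𝟙 (CohB1.ProjSpace n k)) hF.1, CurveCohLib.euler_congr (k := k) e]
    exact hF.2.2 d

/-- Quotients of a fixed sheaf whose Hilbert functions lie in a finite set form a bounded family. -/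
theorem isBounded_quot [Infinite k] {E : (CohB1.ProjSpace n k).Modules} (hE : Coh.IsCoh E) (Φ : Set (ℤ → ℤ))
    (hΦ : Φ.Finite) :
    Pic13.IsBounded k (CohB1.ProjSpace n k) (fun F =>
      Coh.IsCoh F ∧ (∃ p : E ⟶ F, Epi p) ∧
        (fun r : ℤ => FGA.eulerCharLE k (CohB1.ProjSpace n k)
          (CohB1.tensorMod F (Twist.twistProjSpace n k r)) n) ∈ Φ) := by
  haveI hN : IsNoetherian (Proj (CohB1.polyGrading n k)) := Proj16.isNoetherian_proj _
  haveI : IsLocallyNoetherian (CohB1.ProjSpace n k) := hN.toIsLocallyNoetherian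
  haveI : IsProper (CohB1.ProjSpace n k ↘ Spec (CommRingCat.of k)) := PnCoh.Chow.isProper_toSpec n k
  have hEu : ∀ (F : (CohB1.ProjSpace n k).Modules) (_ : Coh.IsCoh F) (d : ℤ),
      FGA.eulerCharLE k (CohB1.ProjSpace n k) (CohB1.tensorMod F (Twist.twistProjSpace n k d)) n =
        Curv2.euler k (CohB1.ProjSpace n k) (CohB1.tensorMod F (Twist.twistProjSpace n k d)) := fun F hF d =>
    (Euler.euler_eq_sum k (CohB1.tensorMod F (Twist.twistProjSpace n k d)) (n + 1) fun q hq =>
      ProjRegular.subsingleton_HH_high hF d q (by omega)).symm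
  have key : ∀ g : ℤ → ℤ, Pic13.IsBounded k (CohB1.ProjSpace n k) (fun F => Coh.IsCoh F ∧ (∃ p : E ⟶ F, Epi p) ∧
      (fun r : ℤ => FGA.eulerCharLE k (CohB1.ProjSpace n k)
          (CohB1.tensorMod F (Twist.twistProjSpace n k r)) n) = g) := fun g => by
    by_cases hg : ∃ F, Coh.IsCoh F ∧ (fun r : ℤ => FGA.eulerCharLE k (CohB1.ProjSpace n k)
        (CohB1.tensorMod F (Twist.twistProjSpace n k r)) n) = g
    · obtain ⟨F₀, hF₀, hg₀⟩ := hg
      obtain ⟨φ, hφ⟩ := exists_hasPoly (k := k) (n := n) hF₀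
      obtain ⟨R, hR⟩ := exists_regularity_bound_quot (k := k) (n := n) hE φ
      refine isBounded_mono (isBounded_reg_poly R φ) fun F hF => ⟨F, ?_, ⟨Iso.refl _⟩⟩
      obtain ⟨hFc, ⟨p, hp⟩, hFg⟩ := hF
      have hpF : HasPoly F φ := fun d => by
        refine Eq.trans ?_ (hφ d)
        refine congrArg Int.cast ?_
        have := congrFun (hFg.trans hg₀.symm) d
        rw [hEu F hFc d, hEu F₀ hF₀ d] at this
        exact this
      exact ⟨hFc, hR F p hp hFc hpF, hpF⟩
    · exact isBounded_mono (isBounded_reg_poly (k := k) (n := n) 0 0) fun F hF => absurd ⟨F, hF.1, hF.2.2⟩ hg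
  refine isBounded_mono (isBounded_exists_mem hΦ.toFinset fun g _ => key g) fun F hF => ?_
  exact ⟨F, ⟨_, hΦ.mem_toFinset.2 hF.2.2, hF.1, hF.2.1, rfl⟩, ⟨Iso.refl _⟩⟩

end Groth.Agent.Bdd

end
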