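import Groth.Agent.LCZLib.Depth

/-!
# Inverse images and multiplication by global functions
-/

set_option autoImplicit false
set_option linter.style.haveILetI false
set_option backward.isDefEq.respectTransparency false
set_option backward.isDefEq.respectTransparency.types false
attribute [-instance] CategoryTheory.catToReflQuiver

universe u

open CategoryTheory CategoryTheory.Limits AlgebraicGeometry TopologicalSpace Opposite

namespace Groth.Agent.Bdd

open Groth.Agent Groth.Agent.QCoh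

variable {X Y : Scheme.{u}}

theorem pushforward_smulHom (σ : X ⟶ Y) (t : Γ(Y, ⊤)) (N : X.Modules) :
    (Scheme.Modules.pushforward σ).map (LCZLib.smulHom (σ.appTop t) N) =
      LCZLib.smulHom t ((Scheme.Modules.pushforward σ).obj N) := by
  refine Scheme.Modules.hom_ext _ _ fun V => ?_
  ext s
  rw [Scheme.Modules.pushforward_map_app]
  show rf X (le_top : σ ⁻¹ᵁ V ≤ ⊤) (σ.app ⊤ t) • (show Γ(N, σ ⁻¹ᵁ V) from s) =
    σ.app V (rf Y (le_top : V ≤ ⊤) t) • (show Γ(N, σ ⁻¹ᵁ V) from s)
  congr 1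
  exact (congr($(σ.naturality (homOfLE (le_top : V ≤ ⊤)).op) t)).symm

theorem pullback_smulHom (σ : X ⟶ Y) (t : Γ(Y, ⊤)) (M : Y.Modules) :
    (Scheme.Modules.pullback σ).map (LCZLib.smulHom t M) =
      LCZLib.smulHom (σ.appTop t) ((Scheme.Modules.pullback σ).obj M) := by
  let adj := Scheme.Modules.pullbackPushforwardAdjunction σ
  apply (adj.homEquiv _ _).injective
  rw [adj.homEquiv_unit, adj.homEquiv_unit, pushforward_smulHom]
  exact (adj.unit.naturality (LCZLib.smulHom t M)).symm.trans ((LCZLib.smulNat t).naturality (adj.unit.app M)).symm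

theorem smulHom_comp (t : Γ(X, ⊤)) {M N : X.Modules} (φ : M ⟶ N) :
    LCZLib.smulHom t M ≫ φ = φ ≫ LCZLib.smulHom t N := ((LCZLib.smulNat t).naturality φ).symm

theorem smulHom_one (M : X.Modules) : LCZLib.smulHom (1 : Γ(X, ⊤)) M = 𝟙 M := by
  refine Scheme.Modules.hom_ext _ _ fun V => ?_
  ext s
  show rf X (le_top : V ≤ ⊤) (1 : Γ(X, ⊤)) • (show Γ(M, V) from s) = s
  rw [show rf X (le_top : V ≤ ⊤) (1 : Γ(X, ⊤)) = 1 from map_one _, one_smul]

theorem smulHom_zero (M : X.Modules) : LCZLib.smulHom (0 : Γ(X, ⊤)) M = 0 := by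
  refine Scheme.Modules.hom_ext _ _ fun V => ?_
  ext s
  show rf X (le_top : V ≤ ⊤) (0 : Γ(X, ⊤)) • (show Γ(M, V) from s) = 0
  rw [show rf X (le_top : V ≤ ⊤) (0 : Γ(X, ⊤)) = 0 from map_zero _, zero_smul]

end Groth.Agent.Bdd
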